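import Cfsg.Agent.OddHalf.D4.ThreeD4Two.Aut
import Cfsg.Agent.HexModel.Main

/-!
# ODD half, D4, `K ≅ ³D₄(2)`: the fact sheet
-/

set_option autoImplicit false

namespace Cfsg.Agent.OddHalf.D4.ThreeD4Two

open Cfsg.Agent.OddHalf.D4.Spor

/-- **The fact sheet of `³D₄(2)`** -/
theorem sheet {X : Type*} [Group X] [Finite X] {L : Type*} [Field L] [Fintype L] (hL : Fintype.card L = 8)
    (e : X ≃* ↥(Cfsg.Lie.twistedD4 L 2)) : Sheet X := by
  obtain ⟨σ, hσ, h3, hne, hf⟩ := Cfsg.Agent.HexModel.Main.exists_sigma (K := L) (a := 1) le_rfl (by rw [hL]; norm_num)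
  have h2 : (2 : L) = 0 := Cfsg.Agent.HexModel.Main.two_eq_zero (n := 3) (by rw [hL]; norm_num)
  have hσ' : ∀ c, σ c = c ^ 2 := by simpa using hσ
  have hm : Mod σ (Cfsg.Agent.HexModel.Main.yy σ 2) := by
    refine ⟨Cfsg.Agent.HexModel.Main.d4_hexTwo hσ' h2 h3, by rw [Nat.card_eq_fintype_card, hL], ?_,
      Cfsg.Agent.HexModel.Main.d4_top hσ' h2⟩
    intro a ha
    rw [hσ'] at ha
    have h4 : a * (a - 1) = 0 := by
      have : a ^ 2 - a = 0 := sub_eq_zero.mpr ha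
      linear_combination this
    rcases mul_eq_zero.mp h4 with h5 | h5
    · exact Or.inl h5
    · exact Or.inr (sub_eq_zero.mp h5)
  have : Finite ↥(Cfsg.Lie.twistedD4 L 2) := Finite.of_equiv X e.toEquiv
  exact Sheet.of_equiv e.symm hm.sheet

end Cfsg.Agent.OddHalf.D4.ThreeD4Two
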