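import Cfsg.Agent.OddHalf.D4.ThreeD4Two.Bal
import Cfsg.Agent.StdRank2.HexAut
import Cfsg.Agent.StdRank2.HexMap
import Cfsg.Agent.OddHalf.D4.Spor.Transport

/-!
# ODD half, D4, `K ≅ ³D₄(2)`: the automorphism group and the fact sheet

Every automorphism is the product of an inner one and a field automorphism (`HexTwo.exists_conj`, helper607), whose
order divides three.
-/

set_option autoImplicit false
set_option linter.unusedSectionVars false

namespace Cfsg.Agent.OddHalf.D4.ThreeD4Two

open Subgroup Cfsg.Agent.StdRank2.Hex Cfsg.Agent.SplitTwo Cfsg.Agent.StdEven.Syl Cfsg.Agent.OddHalf.D4.Spor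
open Cfsg.Agent.StdRank2.Hex.HexTwo (ok1 ok3 ok5 UU AA q uu q_mem uu_mem)
open scoped commutatorElement

/-- automorphisms of the field with eight elements -/
theorem aut_cube {E : Type*} [Field E] (h2 : (2 : E) = 0) (hc : Nat.card E = 8) (τ : E ≃+* E) (a : E) :
    τ (τ (τ a)) = a := by
  have : Finite E := Cfsg.Agent.TriTwo.finE hc
  have hp : Fact (Nat.Prime 2) := ⟨Nat.prime_two⟩
  have : CharP E 2 := CharTwo.of_one_ne_zero_of_two_eq_zero one_ne_zero h2
  let _ := ZMod.algebra E 2
  have hfin : Module.Finite (ZMod 2) E := Module.Finite.of_finite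
  have h1 : Module.finrank (ZMod 2) E = 3 := by
    have h3 := Module.natCard_eq_pow_finrank (K := ZMod 2) (V := E)
    rw [hc, Nat.card_zmod] at h3
    have h4 : 2 ^ 3 = 2 ^ Module.finrank (ZMod 2) E := by rw [← h3]; norm_num
    exact (Nat.pow_right_injective le_rfl h4).symm
  have h3 : Nat.card (E ≃ₐ[ZMod 2] E) = 3 := by rw [IsGalois.card_aut_eq_finrank, h1]
  let τ' : E ≃ₐ[ZMod 2] E := AlgEquiv.ofRingEquiv (f := τ) (fun r => by
    have h5 := (τ : E →+* E).comp (algebraMap (ZMod 2) E)
    have : (τ : E →+* E).comp (algebraMap (ZMod 2) E) = algebraMap (ZMod 2) E := RingHom.ext_zmod _ _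
    exact congrArg (fun f : ZMod 2 →+* E => f r) this)
  have h6 : τ' ^ 3 = 1 := by
    have := pow_card_eq_one' (x := τ')
    rwa [h3] at this
  have h7 := congrArg (fun f : E ≃ₐ[ZMod 2] E => f a) h6
  exact h7

theorem conj_range_normal (X : Type*) [Group X] : ((MulAut.conj : X →* MulAut X).range).Normal := by
  constructor
  rintro _ ⟨g, rfl⟩ β
  refine ⟨β g, ?_⟩
  ext y
  simp [MulAut.conj_apply]

variable {E : Type*} [Field E] {σ : E ≃+* E} {X : Type*} [Group X] {x : ZMod 12 → E → X}

namespace Mod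

variable (M : Mod σ x)

include M

/-- two automorphisms which agree on the root elements are equal -/
theorem aut_ext {α β : MulAut X} (h : ∀ k a, Ok σ k a → α (x k a) = β (x k a)) : α = β := by
  ext y
  have hy := M.mem_AA y
  unfold HexTwo.AA gen at hy
  induction hy using Subgroup.closure_induction with
  | mem y hy =>
    obtain ⟨k, -, a, ha, rfl⟩ := hy
    exact h k a ha
  | one => rw [map_one, map_one]
  | mul a b _ _ ha hb => rw [map_mul, map_mul, ha, hb]
  | inv a _ ha => rw [map_inv, map_inv, ha]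

/-- the cube of an automorphism is inner -/
theorem cube_mem [Finite X] (β : MulAut X) : β ^ 3 ∈ (MulAut.conj : X →* MulAut X).range := by
  have h := M.hex
  have := M.finE
  set y : ZMod 12 → E → X := fun k a => β (x k a) with hy
  have hH : HexTwo σ y := h.map β.toMonoidHom β.injective (fun k a _ => rfl)
  have hAA : AA σ y = AA σ x := by
    rw [M.top, eq_top_iff]
    intro g _
    have h1 : β.symm g ∈ AA σ x := M.mem_AA _
    have h2 : ∀ z ∈ AA σ x, β z ∈ AA σ y := by
      intro z hz
      unfold HexTwo.AA gen at hz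
      induction hz using Subgroup.closure_induction with
      | mem z hz =>
        obtain ⟨k, -, a, ha, rfl⟩ := hz
        exact x_mem_gen (x := y) (Set.mem_univ k) ha
      | one => rw [map_one]; exact one_mem _
      | mul a b _ _ ha hb => rw [map_mul]; exact mul_mem ha hb
      | inv a _ ha => rw [map_inv]; exact inv_mem ha
    have h3 := h2 _ h1
    have h4 : β (β.symm g) = g := β.apply_symm_apply g
    rwa [h4] at h3
  obtain ⟨g, -, τ, hg⟩ := exists_conj h hH (Or.inr M.exists_mover) hAA
  have hcube := aut_cube h.two M.card τ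
  have hok : ∀ {k : ZMod 12} {a : E}, Ok σ k a → Ok σ k (τ a) := by
    intro k a ha hk
    rcases M.fix a (ha hk) with rfl | rfl
    · rw [map_zero, map_zero]
    · rw [map_one, map_one]
  have hact : ∀ k a, Ok σ k a → (MulAut.conj g⁻¹ * β) (x k a) = x k (τ a) := by
    intro k a ha
    have h1 : β (x k a) = g * x k (τ a) * g⁻¹ := hg k a ha
    show MulAut.conj g⁻¹ (β (x k a)) = x k (τ a)
    rw [h1, MulAut.conj_apply]
    group
  have h3 : (MulAut.conj g⁻¹ * β) ^ 3 = 1 := by
    refine M.aut_ext fun k a ha => ?_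
    have e : ((MulAut.conj g⁻¹ * β) ^ 3) (x k a) =
        (MulAut.conj g⁻¹ * β) ((MulAut.conj g⁻¹ * β) ((MulAut.conj g⁻¹ * β) (x k a))) := rfl
    rw [e, hact k a ha, hact k _ (hok ha), hact k _ (hok (hok ha)), hcube]
    rfl
  have hN := conj_range_normal X
  -- modulo inner automorphisms
  have h4 : ((QuotientGroup.mk' (MulAut.conj : X →* MulAut X).range) β) ^ 3 = 1 := by
    have h5 := congrArg (QuotientGroup.mk' (MulAut.conj : X →* MulAut X).range) h3
    rw [map_pow, map_mul, map_one] at h5
    have h6 : (QuotientGroup.mk' (MulAut.conj : X →* MulAut X).range) (MulAut.conj g⁻¹) = 1 := by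
      rw [← MonoidHom.mem_ker, QuotientGroup.ker_mk']
      exact ⟨g⁻¹, rfl⟩
    rwa [h6, one_mul] at h5
  rw [← map_pow, ← MonoidHom.mem_ker, QuotientGroup.ker_mk'] at h4
  exact h4

/-- **`Out(³D₄(2))` is a 3-group.** -/
theorem out_three [Finite X] : (hN : ((MulAut.conj : X →* MulAut X).range).Normal) →
    IsPGroup 3 (MulAut X ⧸ (MulAut.conj : X →* MulAut X).range) := by
  intro hN q
  obtain ⟨β, rfl⟩ := QuotientGroup.mk'_surjective _ q
  refine ⟨1, ?_⟩
  rw [pow_one, ← map_pow, ← MonoidHom.mem_ker, QuotientGroup.ker_mk']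
  exact M.cube_mem β

theorem index_odd [Finite X] : ¬ 2 ∣ (MulAut.conj : X →* MulAut X).range.index := by
  intro h
  have hN := conj_range_normal X
  have h3 := M.out_three hN
  have hfin : Finite (MulAut X) := Finite.of_injective (fun α : MulAut X => (α : X → X)) (fun α β h => by
    ext y; exact congrFun h y)
  have : Fact (Nat.Prime 3) := ⟨Nat.prime_three⟩
  obtain ⟨n, hn⟩ := IsPGroup.iff_card.mp h3
  rw [Subgroup.index_eq_card, hn] at h
  have := (Nat.prime_two.dvd_of_dvd_pow h)
  omega

/-- **2-elements of the automorphism group are inner.** -/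
theorem inn_of_two [Finite X] {β : MulAut X} {m : ℕ} (hβ : β ^ 2 ^ m = 1) : Inn β := by
  have hc : Nat.Coprime 3 (2 ^ m) := by
    refine Nat.Coprime.pow_right m ?_
    decide
  have h1 : β = (β ^ 3) ^ (Nat.gcdA 3 (2 ^ m)) * (β ^ 2 ^ m) ^ (Nat.gcdB 3 (2 ^ m)) := by
    have h2 := Nat.gcd_eq_gcd_ab 3 (2 ^ m)
    rw [Nat.Coprime.gcd_eq_one hc] at h2
    calc β = β ^ ((1 : ℕ) : ℤ) := by simp
      _ = _ := by
        rw [h2, zpow_add, zpow_mul, zpow_mul, zpow_natCast, zpow_natCast]
  have h3 : β ∈ (MulAut.conj : X →* MulAut X).range := by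
    rw [h1, hβ, one_zpow, mul_one]
    exact zpow_mem (M.cube_mem β) _
  obtain ⟨g, hg⟩ := h3
  exact ⟨g, hg.symm⟩

theorem schreier [Finite X] (P : Subgroup (MulAut X)) (hP : ⁅P, P⁆ = P) :
    P ≤ (MulAut.conj : X →* MulAut X).range := by
  have hN := conj_range_normal X
  have h3 := M.out_three hN
  have : Fact (Nat.Prime 3) := ⟨Nat.prime_three⟩
  have hfin : Finite (MulAut X) := Finite.of_injective (fun α : MulAut X => (α : X → X)) (fun α β h => by
    ext y; exact congrFun h y)
  have hnil : Group.IsNilpotent (MulAut X ⧸ (MulAut.conj : X →* MulAut X).range) := h3.isNilpotent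
  have hsol : Group.IsSolvable (MulAut X ⧸ (MulAut.conj : X →* MulAut X).range) := inferInstance
  set f := QuotientGroup.mk' (MulAut.conj : X →* MulAut X).range with hf
  have h4 : ⁅P.map f, P.map f⁆ = P.map f := by rw [← Subgroup.map_commutator, hP]
  have h5 : P.map f = ⊥ := by
    obtain ⟨n, hn⟩ := hsol.solvable
    have key : ∀ n, P.map f ≤ derivedSeries _ n := by
      intro n
      induction n with
      | zero => exact le_top
      | succ n ih =>
        rw [derivedSeries_succ, ← h4]
        exact commutator_mono ih ih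
    rw [eq_bot_iff, ← hn]
    exact key n
  rw [Subgroup.map_eq_bot_iff, hf, QuotientGroup.ker_mk'] at h5
  exact h5

/-- **The fact sheet of `³D₄(2)`.** -/
theorem sheet [Finite X] : Sheet X where
  out := fun h => M.index_odd (dvd_trans (by norm_num) h)
  schreier := M.schreier
  sylAut := by
    intro _ α hα _
    obtain ⟨n, hn⟩ := hα ⟨α, mem_zpowers α⟩
    exact M.inn_of_two (m := n) (congrArg Subtype.val hn)
  z1 := fun S a ha _ ha1 hac b hb _ hb1 hbc => M.z1 S a ha ha1 hac b hb hb1 hbc
  bal := M.bal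
  out2 := by
    intro α h1 h2
    exact absurd (M.inn_of_two (m := 1) (by rw [pow_one, pow_two, h2])) h1
  tab := tab_of_not_bad M.not_bad

end Mod

end Cfsg.Agent.OddHalf.D4.ThreeD4Two
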