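import Cfsg.Agent.OddHalf.D4.ThreeD4Two.Base
import Cfsg.Agent.OddHalf.D4.Spor.Transport
import Cfsg.Agent.TriTwo.SecOne

/-!
# ODD half, D4, `K ≅ ³D₄(2)`: no `Bad` subgroup

`w = x 3 1`, `B = C_U(w)` is a Sylow 2-subgroup of `C(w)`; a normal subgroup `N ∋ w` of `C(w)` without 2-central
involutions meets `B` in `⟨w⟩`.
-/

set_option autoImplicit false
set_option linter.unusedSectionVars false
set_option linter.unusedSimpArgs false

namespace Cfsg.Agent.OddHalf.D4.ThreeD4Two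

open Subgroup Cfsg.Agent.OddHalf.D4.Spor

variable {X Y : Type*} [Group X] [Group Y]

theorem bad_map (e : X ≃* Y) {w : X} {N : Subgroup X} (h : Bad w N) : Bad (e w) (N.map e.toMonoidHom) where
  sq := by rw [← map_mul, h.sq, map_one]
  ne := fun h1 => h.ne (by apply e.injective; rw [h1, map_one])
  mem := ⟨w, h.mem, rfl⟩
  le := by
    rintro _ ⟨n, hn, rfl⟩
    show e n * e w = e w * e n
    rw [← map_mul, h.le n hn, map_mul]
  norm := by
    rintro c hc _ ⟨n, hn, rfl⟩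
    obtain ⟨c, rfl⟩ := e.surjective c
    refine ⟨c * n * c⁻¹, h.norm c ?_ n hn, ?_⟩
    · apply e.injective
      rw [map_mul, map_mul, hc]
    · show e (c * n * c⁻¹) = e c * e n * (e c)⁻¹
      rw [map_mul, map_mul, map_inv]
  four := by
    have : Nat.card ↥(N.map e.toMonoidHom) = Nat.card ↥N :=
      (Nat.card_congr (N.equivMapOfInjective e.toMonoidHom e.injective).toEquiv).symm
    rw [this]; exact h.four
  non := by
    rintro _ ⟨n, hn, rfl⟩ h1 h2 h3
    refine h.non n hn ?_ ?_ ((cen_iff e).1 h3)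
    · apply e.injective
      rw [map_mul, map_one]; exact h1
    · rintro rfl
      exact h2 (map_one _)

/-- `Cen` is invariant under conjugation. -/
theorem cen_of_conj {w : X} (g : X) (h : Cen (g * w * g⁻¹)) : Cen w := (cen_iff (MulAut.conj g)).1 h

theorem card_mul_relIndex {H K : Subgroup X} (hle : H ≤ K) : Nat.card ↥H * H.relIndex K = Nat.card ↥K := by
  rw [← relIndex_bot_left, ← relIndex_bot_left]
  exact relIndex_mul_relIndex _ _ _ bot_le hle

/-- counting of a conjugacy class -/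
theorem card_le_of_conj [Finite X] {U B : Subgroup X} {w : X} (hB : ∀ u ∈ U, u * w = w * u → u ∈ B)
    (T : Finset X) (hT : ∀ u ∈ U, u * w * u⁻¹ ∈ T) : Nat.card ↥U ≤ T.card * Nat.card ↥B := by
  classical
  have hr : ∀ t : {t // t ∈ T}, ∃ r : X, (∃ u ∈ U, u * w * u⁻¹ = t) → r ∈ U ∧ r * w * r⁻¹ = t := by
    intro t
    by_cases h : ∃ u ∈ U, u * w * u⁻¹ = t
    · obtain ⟨u, hu, e⟩ := h
      exact ⟨u, fun _ => ⟨hu, e⟩⟩
    · exact ⟨1, fun h' => absurd h' h⟩
  choose r hr using hr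
  let φ : ↥U → {t // t ∈ T} × ↥B := fun u =>
    (⟨(u : X) * w * (u : X)⁻¹, hT u u.2⟩, ⟨(r ⟨(u : X) * w * (u : X)⁻¹, hT u u.2⟩)⁻¹ * u, by
      obtain ⟨h1, h2⟩ := hr ⟨(u : X) * w * (u : X)⁻¹, hT u u.2⟩ ⟨u, u.2, rfl⟩
      refine hB _ (mul_mem (inv_mem h1) u.2) ?_
      set r0 := r ⟨(u : X) * w * (u : X)⁻¹, hT u u.2⟩
      have h3 : r0 * w * r0⁻¹ = u * w * (u : X)⁻¹ := h2
      calc r0⁻¹ * u * w = r0⁻¹ * (u * w * (u : X)⁻¹) * u := by group
        _ = r0⁻¹ * (r0 * w * r0⁻¹) * u := by rw [h3]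
        _ = w * (r0⁻¹ * u) := by group⟩)
  have hφ : Function.Injective φ := by
    intro u v huv
    have h1 : (u : X) * w * (u : X)⁻¹ = v * w * (v : X)⁻¹ := congrArg (fun y => (y.1 : X)) huv
    have h2 : (r ⟨(u : X) * w * (u : X)⁻¹, hT u u.2⟩)⁻¹ * (u : X) = (r ⟨(v : X) * w * (v : X)⁻¹, hT v v.2⟩)⁻¹ * v :=
      congrArg (fun y => (y.2 : X)) huv
    apply Subtype.ext
    have h3 : (⟨(u : X) * w * (u : X)⁻¹, hT u u.2⟩ : {t // t ∈ T}) = ⟨(v : X) * w * (v : X)⁻¹, hT v v.2⟩ :=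
      Subtype.ext h1
    rw [h3] at h2
    exact mul_left_cancel h2
  calc Nat.card ↥U ≤ Nat.card ({t // t ∈ T} × ↥B) := Nat.card_le_card_of_injective φ hφ
    _ = T.card * Nat.card ↥B := by
      rw [Nat.card_prod, Nat.card_eq_fintype_card, Fintype.card_coe]

end Cfsg.Agent.OddHalf.D4.ThreeD4Two

namespace Cfsg.Agent.OddHalf.D4.ThreeD4Two

open Subgroup Cfsg.Agent.StdRank2.Hex Cfsg.Agent.SplitTwo Cfsg.Agent.StdEven.Syl Cfsg.Agent.OddHalf.D4.Spor
open Cfsg.Agent.StdRank2.Hex.HexTwo (ok1 ok3 ok5 UU AA q uu q_mem uu_mem)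
open scoped commutatorElement

variable {E : Type*} [Field E] {σ : E ≃+* E} {X : Type*} [Group X] {x : ZMod 12 → E → X}

namespace Mod

variable (M : Mod σ x)

include M

theorem cen_x4 [Finite X] : Cen (x 4 1) := by
  obtain ⟨P, hP⟩ := M.isSyl_U.exists_sylow
  refine ⟨P, fun s hs => M.x4_comm ?_⟩
  rw [← hP]; exact hs

theorem cen_V [Finite X] {v : X} (hv : v ∈ gen σ x {2, 4}) (h1 : v ≠ 1) : Cen v := by
  obtain ⟨g, hg, -⟩ := M.conj_x4_of_V hv h1
  apply cen_of_conj g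
  rw [hg]
  exact M.cen_x4

/-- `x 3 1`: an element of trace zero with trivial trace to all elements of trace zero -/
theorem zero_or_one_of_trc {c : E} (hc : ∀ y, trc σ y 1 = 0 → trc σ y c = 0) : c = 0 ∨ c = 1 := by
  have h := M.hex
  have hs : σ (trc σ 1 c) = trc σ 1 c := h.fix_trc 1 c
  have key : ∀ y, trc σ (c - trc σ 1 c) y = 0 := by
    intro y
    have ht : σ (trc σ y 1) = trc σ y 1 := h.fix_trc y 1
    have h1 : trc σ (y + trc σ y 1) 1 = 0 := by
      rw [trc_add_left]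
      have : trc σ (trc σ y 1) 1 = trc σ y 1 := by rw [trc_comm]; exact h.trc_one_right ht
      rw [this]
      exact h.add_self _
    have h2 := hc _ h1
    rw [trc_add_left] at h2
    have h3 : trc σ (trc σ y 1) c = trc σ y 1 * trc σ 1 c := by
      have := trc_smul_left ht 1 c
      rwa [mul_one] at this
    have h4 : trc σ y (trc σ 1 c) = trc σ 1 c * trc σ y 1 := by
      have := trc_smul_right hs y 1
      rwa [mul_one] at this
    rw [trc_comm, h.sub_eq, trc_add_right, h4, mul_comm (trc σ 1 c), ← h3]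
    exact h2
  have h0 : c - trc σ 1 c = 0 := h.eq_zero_of_trc key
  have h1 : c = trc σ 1 c := sub_eq_zero.1 h0
  rcases M.fix _ hs with h2 | h2
  · left; rw [h1, h2]
  · right; rw [h1, h2]

/-- an involution centralized by a 2-subgroup of index at most two in a Sylow 2-subgroup is conjugate to `x 4 1`. -/
theorem conj_x4_of_card [Finite X] {w : X} (hw : w * w = 1) (hw1 : w ≠ 1) {P : Subgroup X} (hP : IsPGroup 2 ↥P)
    (hPw : ∀ p ∈ P, p * w = w * p) (hcard : Nat.card ↥(UU σ x) ≤ 2 * Nat.card ↥P) : ∃ g : X, g * w * g⁻¹ = x 4 1 := by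
  have h := M.hex
  have := M.finE
  -- a Sylow 2-subgroup of `C(w)`
  obtain ⟨P', hP', hPP'⟩ := exists_isSyl (N := centralizer ({w} : Set X)) hP
    (fun p hp => mem_centralizer_singleton_iff.mpr (hPw p hp))
  have hwC : w ∈ centralizer ({w} : Set X) := mem_centralizer_singleton_iff.mpr rfl
  have hwP' : w ∈ P' := by
    have hz : IsPGroup 2 ↥(zpowers w) := Cfsg.Agent.TriTwo.SecOne.isPGroup_zpowers (m := 1) (by rw [pow_one, pow_two, hw])
    have hn : P' ≤ normalizer (zpowers w : Set X) := by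
      intro p hp
      have hpw : p * w = w * p := mem_centralizer_singleton_iff.mp (hP'.le hp)
      apply mem_normalizer_of_conj_le
      intro y hy
      obtain ⟨k, rfl⟩ := mem_zpowers_iff.mp hy
      have : p * w ^ k * p⁻¹ = w ^ k := by
        have : Commute p w := hpw
        rw [(this.zpow_right k).eq, mul_inv_cancel_right]
      rw [this]; exact hy
    have h2 : IsPGroup 2 ↥(P' ⊔ zpowers w) := IsPGroup.to_sup_of_normal_right' hP'.two hz hn
    have h3 := hP'.max _ h2 (sup_le hP'.le (by rw [zpowers_le]; exact hwC)) le_sup_left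
    rw [← h3]
    exact (le_sup_right : zpowers w ≤ _) (mem_zpowers w)
  have hcard' : Nat.card ↥(UU σ x) ≤ 2 * Nat.card ↥P' :=
    hcard.trans (Nat.mul_le_mul_left 2 (Nat.card_le_card_of_injective _ (Subgroup.inclusion_injective hPP')))
  -- conjugate it into `U`
  obtain ⟨g, -, hg⟩ := h.sylow_conj (S := AA σ x) (HexTwo.gen_le_AA _) le_rfl hP'.two (by rw [M.top]; exact le_top)
  set w' := g * w * g⁻¹ with hw'
  have hw'U : w' ∈ UU σ x := hg w hwP'
  have hw'2 : w' * w' = 1 := by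
    rw [hw']
    calc g * w * g⁻¹ * (g * w * g⁻¹) = g * (w * w) * g⁻¹ := by group
      _ = 1 := by rw [hw]; group
  have hinv : w'⁻¹ = w' := inv_eq_of_mul_eq_one_left hw'2
  have hw'1 : w' ≠ 1 := by
    intro h0
    apply hw1
    have : w = g⁻¹ * w' * g := by rw [hw']; group
    rw [this, h0]; group
  set C := UU σ x ⊓ centralizer ({w'} : Set X) with hC
  have hPC : P'.map (MulAut.conj g).toMonoidHom ≤ C := by
    rintro _ ⟨p, hp, rfl⟩
    refine ⟨hg p hp, mem_centralizer_singleton_iff.mpr ?_⟩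
    have hpw : p * w = w * p := mem_centralizer_singleton_iff.mp (hP'.le hp)
    show g * p * g⁻¹ * (g * w * g⁻¹) = g * w * g⁻¹ * (g * p * g⁻¹)
    calc g * p * g⁻¹ * (g * w * g⁻¹) = g * (p * w) * g⁻¹ := by group
      _ = g * (w * p) * g⁻¹ := by rw [hpw]
      _ = _ := by group
  have hcC : Nat.card ↥(UU σ x) ≤ 2 * Nat.card ↥C := by
    refine hcard'.trans (Nat.mul_le_mul_left 2 ?_)
    calc Nat.card ↥P' = Nat.card ↥(P'.map (MulAut.conj g).toMonoidHom) :=
          Nat.card_congr (P'.equivMapOfInjective (MulAut.conj g).toMonoidHom (MulAut.conj g).injective).toEquiv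
      _ ≤ Nat.card ↥C := Nat.card_le_card_of_injective _ (Subgroup.inclusion_injective hPC)
  have memC : ∀ {u : X}, u ∈ UU σ x → (u ∈ C ↔ u * w' * u⁻¹ = w') := by
    intro u hu
    constructor
    · rintro ⟨-, h2⟩
      rw [mem_centralizer_singleton_iff.mp h2, mul_inv_cancel_right]
    · intro h2
      exact ⟨hu, mem_centralizer_singleton_iff.mpr (mul_inv_eq_iff_eq_mul.mp h2)⟩
  -- the index of `C` in `U`
  have hidx : C.relIndex (UU σ x) = 1 ∨ C.relIndex (UU σ x) = 2 := by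
    have h1 := card_mul_relIndex (H := C) (K := UU σ x) inf_le_left
    have h2 : 0 < Nat.card ↥C := Nat.card_pos
    have h3 : 0 < Nat.card ↥(UU σ x) := Nat.card_pos
    have h4 : C.relIndex (UU σ x) ≤ 2 := by
      by_contra hcon
      have : Nat.card ↥C * 3 ≤ Nat.card ↥C * C.relIndex (UU σ x) := Nat.mul_le_mul_left _ (by omega)
      omega
    have h5 : C.relIndex (UU σ x) ≠ 0 := by
      intro h0
      rw [h0, mul_zero] at h1
      omega
    omega
  -- `[w', v] ∈ X₄`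
  have hcomm : ∀ v ∈ UU σ x, ⁅w', v⁆ ∈ gen σ x {4} := by
    intro v hv
    by_cases hvC : v ∈ C
    · have : ⁅w', v⁆ = 1 := by
        rw [commutatorElement_eq_one_iff_mul_comm]
        exact (mem_centralizer_singleton_iff.mp hvC.2).symm
      rw [this]; exact one_mem _
    have h2 : (C.subgroupOf (UU σ x)).index = 2 := by
      rcases hidx with h1 | h1
      · exfalso
        apply hvC
        rw [Subgroup.relIndex_eq_one] at h1
        exact h1 hv
      · exact h1
    have hmul : ∀ {a b : X}, a ∈ UU σ x → b ∈ UU σ x → (a * b ∈ C ↔ (a ∈ C ↔ b ∈ C)) := by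
      intro a b ha hb
      exact Subgroup.mul_mem_iff_of_index_two h2 (a := ⟨a, ha⟩) (b := ⟨b, hb⟩)
    -- all elements outside `C` do the same
    have hout : ∀ {u : X}, u ∈ UU σ x → u ∉ C → u * w' * u⁻¹ = v * w' * v⁻¹ := by
      intro u hu huC
      have h3 : v⁻¹ * u ∈ C := (hmul (inv_mem hv) hu).2 (by
        rw [inv_mem_iff]
        exact ⟨fun h => absurd h hvC, fun h => absurd h huC⟩)
      have h4 := (memC (mul_mem (inv_mem hv) hu)).1 h3
      calc u * w' * u⁻¹ = v * (v⁻¹ * u * w' * (v⁻¹ * u)⁻¹) * v⁻¹ := by group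
        _ = _ := by rw [h4]
    have hw'C : w' ∈ C := ⟨hw'U, mem_centralizer_singleton_iff.mpr rfl⟩
    have hvw : v * w' * v⁻¹ ∈ C := by
      rw [hmul (mul_mem hv hw'U) (inv_mem hv), hmul hv hw'U, inv_mem_iff]
      tauto
    have hz : ⁅w', v⁆ = w' * (v * w' * v⁻¹) := by
      rw [commutatorElement_def, hinv]; group
    rw [hz]
    refine h.mem_X4_of_U (mul_mem hw'U (mul_mem (mul_mem hv hw'U) (inv_mem hv))) fun u hu => ?_
    have hcw : v * w' * v⁻¹ * w' = w' * (v * w' * v⁻¹) := mem_centralizer_singleton_iff.mp hvw.2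
    have key : u * (w' * (v * w' * v⁻¹)) * u⁻¹ = w' * (v * w' * v⁻¹) := by
      by_cases huC : u ∈ C
      · have h5 := (memC hu).1 huC
        have h6 : u * v ∉ C := by rw [hmul hu hv]; tauto
        have h7 := hout (mul_mem hu hv) h6
        calc u * (w' * (v * w' * v⁻¹)) * u⁻¹ = (u * w' * u⁻¹) * (u * v * w' * (u * v)⁻¹) := by group
          _ = _ := by rw [h5, h7]
      · have h5 := hout hu huC
        have h6 : u * v ∈ C := by rw [hmul hu hv]; tauto
        have h7 := (memC (mul_mem hu hv)).1 h6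
        calc u * (w' * (v * w' * v⁻¹)) * u⁻¹ = (u * w' * u⁻¹) * (u * v * w' * (u * v)⁻¹) := by group
          _ = _ := by rw [h5, h7, hcw]
    exact (mul_inv_eq_iff_eq_mul.mp key).symm
  obtain ⟨g', hg', -⟩ := M.conj_x4_of_V (M.mem_V_of hw'U hcomm) hw'1
  refine ⟨g' * g, ?_⟩
  rw [← hg', hw']
  group

/-- `C_U(x 3 1)` -/
theorem card_U_le [Finite X] : Nat.card ↥(UU σ x) ≤ 4 * Nat.card ↥(UU σ x ⊓ centralizer ({x 3 1} : Set X)) := by
  classical
  have h := M.hex
  refine (card_le_of_conj (B := UU σ x ⊓ centralizer ({x 3 1} : Set X)) (w := x 3 1) (fun u hu huw => ⟨hu,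
    mem_centralizer_singleton_iff.mpr huw⟩) ({q x 0 1 0 0 0, q x 0 1 1 0 0, q x 1 1 0 0 0, q x 1 1 1 0 0} : Finset X)
    ?_).trans (Nat.mul_le_mul_right _ ?_)
  · intro u hu
    obtain ⟨a, b, c, d, e, f, hb, hd, hf, rfl⟩ := h.mem_UU.1 hu
    rw [h.uu_x3 hb hd hf, mul_inv_cancel_right]
    simp only [Finset.mem_insert, Finset.mem_singleton]
    rcases M.fix _ (h.fix_trc a 1) with h1 | h1 <;> rcases M.fix _ (h.fix_trc 1 e) with h2 | h2 <;>
      rw [h1, h2] <;> tauto
  · refine (Finset.card_insert_le _ _).trans ?_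
    have h1 := Finset.card_insert_le (q x 0 1 1 0 0) ({q x 1 1 0 0 0, q x 1 1 1 0 0} : Finset X)
    have h2 := Finset.card_insert_le (q x 1 1 0 0 0) ({q x 1 1 1 0 0} : Finset X)
    rw [Finset.card_singleton] at h2
    omega

/-- `C_U(x 3 1)` is a Sylow 2-subgroup of `C(x 3 1)`. -/
theorem isSyl_CU [Finite X] : IsSyl (UU σ x ⊓ centralizer ({x 3 1} : Set X)) (centralizer ({x 3 1} : Set X)) := by
  have h := M.hex
  have := M.finE
  have h2 : IsPGroup 2 ↥(UU σ x ⊓ centralizer ({x 3 1} : Set X)) := h.isPGroup_U.to_le inf_le_left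
  refine ⟨inf_le_right, h2, fun Q hQ hQC hle => ?_⟩
  refine (Subgroup.eq_of_le_of_card_ge hle ?_).symm
  by_contra hcon
  push Not at hcon
  have hlt : 2 * Nat.card ↥(UU σ x ⊓ centralizer ({x 3 1} : Set X)) ≤ Nat.card ↥Q := by
    obtain ⟨k, hk⟩ := card_dvd_of_le hle
    have : 0 < Nat.card ↥(UU σ x ⊓ centralizer ({x 3 1} : Set X)) := Nat.card_pos
    rcases k with _ | _ | k
    · omega
    · omega
    · rw [hk, mul_comm]
      exact Nat.mul_le_mul_left _ (by omega)
  have hcard := M.card_U_le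
  have h31 : x 3 1 ≠ 1 := by
    intro h0
    exact one_ne_zero ((h.x_eq_one (ok3 (1 : E))).1 h0)
  obtain ⟨g, hg⟩ := M.conj_x4_of_card (h.x_sq (ok3 (1 : E))) h31 hQ
    (fun p hp => mem_centralizer_singleton_iff.mp (hQC hp)) (by omega)
  exact h.x3_not_conj (M.mem_AA g) one_ne_zero (map_one σ) hg

/-- the key computation: a subgroup `T` of `C_U(w)`, `w = x 3 1 ∈ T`, normalised by `C_U(w)`, with `T ∩ V = 1` -/
theorem T_le {T : Subgroup X} (hT : T ≤ UU σ x ⊓ centralizer ({x 3 1} : Set X)) (hw : x 3 1 ∈ T)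
    (hn : ∀ b ∈ UU σ x ⊓ centralizer ({x 3 1} : Set X), ∀ t ∈ T, b * t * b⁻¹ ∈ T)
    (hV : ∀ t ∈ T, t ∈ gen σ x {2, 4} → t = 1) {t : X} (ht : t ∈ T) : t = 1 ∨ t = x 3 1 := by
  have h := M.hex
  have z : σ (0 : E) = 0 := map_zero σ
  have o : σ (1 : E) = 1 := map_one σ
  -- commutators with elements of `B` are in `T`
  have hcm : ∀ b ∈ UU σ x, b * x 3 1 = x 3 1 * b → ∀ t ∈ T, t * b * t⁻¹ * b⁻¹ ∈ T := by
    intro b hb hbc t ht
    have := hn b ⟨hb, mem_centralizer_singleton_iff.mpr hbc⟩ t⁻¹ (inv_mem ht)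
    have e : t * b * t⁻¹ * b⁻¹ = t * (b * t⁻¹ * b⁻¹) := by group
    rw [e]
    exact mul_mem ht this
  have x2U : x 2 1 ∈ UU σ x := x_mem_gen (by rw [mem_arc]; decide) (ok_one σ 2)
  have x3U : ∀ c, x 3 c ∈ UU σ x := fun c => x_mem_gen (by rw [mem_arc]; decide) (ok3 c)
  have x1U : ∀ c, x 1 c ∈ UU σ x := fun c => x_mem_gen (by rw [mem_arc]; decide) (ok1 c)
  have c33 : ∀ c, x 3 c * x 3 1 = x 3 1 * x 3 c := fun c => (h.x_comm_same (ok3 c) (ok3 1)).eq
  obtain ⟨a, b, c, d, e, f, hb, hd, hf, rfl⟩ := h.mem_UU.1 (hT ht).1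
  -- commutation with `x 2 1`
  have hf0 : f = 0 := by
    have h1 := hcm (x 2 1) x2U (h.s23 o 1) _ ht
    have e1 : uu x a b c d e f * x 2 1 * (uu x a b c d e f)⁻¹ * (x 2 1)⁻¹ = x 4 f := by
      have e2 : uu x a b c d e f * x 2 1 = q x 1 0 f 0 0 * uu x a b c d e f := by
        rw [← h.q2, h.uu_q234 hb hd hf o z]
        simp only [trc_zero_right, trc_zero_left, zero_add, add_zero, one_mul]
      rw [e2, mul_inv_cancel_right, h.q_234, h.x_zero, mul_one, h.s24 o hf, mul_inv_cancel_right]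
    rw [e1] at h1
    have h2 := hV _ h1 (x_mem_gen (by simp) (ok_of_fix 4 hf))
    exact (h.x_eq_one (ok_of_fix 4 hf)).1 h2
  subst hf0
  -- commutation with `x 3 y`
  have h3 : ∀ y, trc σ a y = 0 ∧ trc σ y e = 0 := by
    intro y
    have h1 := hcm (x 3 y) (x3U y) (c33 y) _ ht
    have f1 := h.fix_trc a y
    have f2 := h.fix_trc y e
    have e1 : uu x a b c d e 0 * x 3 y * (uu x a b c d e 0)⁻¹ * (x 3 y)⁻¹ = q x (trc σ a y) 0 (trc σ y e) 0 0 := by
      rw [h.uu_x3 hb hd hf, mul_inv_cancel_right, mul_inv_eq_iff_eq_mul, ← h.q3, h.q_mul f1 f2 z z z z]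
      simp only [trc_zero_right, zero_add, add_zero, mul_zero]
    rw [e1] at h1
    have h2 := hV _ h1 (h.mem_24.2 ⟨_, _, f1, f2, rfl⟩)
    rw [← h.q_zero] at h2
    obtain ⟨r1, -, r2, -⟩ := h.q_inj f1 f2 z z z z h2
    exact ⟨r1, r2⟩
  have ha : a = 0 := h.eq_zero_of_trc fun y => (h3 y).1
  have he : e = 0 := h.eq_zero_of_trc fun y => by rw [trc_comm]; exact (h3 y).2
  subst ha he
  -- commutation with `x 1 y`
  have h1 : ∀ y, trc σ y 1 = 0 → trc σ y c = 0 := by
    intro y hy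
    have f1 := h.fix_trc y c
    have hy1 : x 1 y * x 3 1 = x 3 1 * x 1 y := by
      rw [h.c13, hy, h.x_zero, one_mul]
    have h1 := hcm (x 1 y) (x1U y) hy1 _ ht
    have e1 : uu x 0 b c d 0 0 * x 1 y * (uu x 0 b c d 0 0)⁻¹ * (x 1 y)⁻¹ = x 2 (trc σ y c) := by
      have e2 : x 1 y * q x b c d 0 0 = q x (b + trc σ y c) c d 0 0 * x 1 y := by
        rw [h.x1_q y hb hd z]
        simp only [trc_zero_right, crs_zero_right, zero_mul, add_zero, shp_zero, show (0 : E) ^ 2 = 0 by norm_num]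
      have e3 : x 2 (trc σ y c) * q x b c d 0 0 = q x (b + trc σ y c) c d 0 0 := by
        rw [← h.q2, h.q_mul f1 z z hb hd z]
        simp only [mul_zero, trc_zero_right, zero_add, add_zero]
        rw [add_comm]
      have i2 : x 2 (trc σ y c) * x 2 (trc σ y c) = 1 := h.x_sq (ok_of_fix 2 f1)
      have e4 : x 1 y * q x b c d 0 0 = x 2 (trc σ y c) * (q x b c d 0 0 * x 1 y) := by
        rw [e2, ← e3, mul_assoc]
      have e5 : q x b c d 0 0 * x 1 y = x 2 (trc σ y c) * (x 1 y * q x b c d 0 0) := by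
        rw [e4, ← mul_assoc, i2, one_mul]
      rw [h.uq, e5]
      group
    rw [e1] at h1
    have h2 := hV _ h1 (x_mem_gen (by simp) (ok_of_fix 2 f1))
    exact (h.x_eq_one (ok_of_fix 2 f1)).1 h2
  rw [h.uq] at ht ⊢
  rcases M.zero_or_one_of_trc h1 with rfl | rfl
  · left
    exact hV _ ht (h.mem_24.2 ⟨b, d, hb, hd, rfl⟩)
  · right
    have e1 : q x b 1 d 0 0 * x 3 1 = q x b 0 d 0 0 := by
      rw [← h.q3, h.q_mul hb hd z z z z]
      simp only [mul_zero, trc_zero_right, add_zero]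
      rw [h.add_self]
    have h2 := hV _ (e1 ▸ mul_mem ht hw) (h.mem_24.2 ⟨b, d, hb, hd, rfl⟩)
    rw [← e1] at h2
    have h3 := h.x_sq (ok3 (1 : E))
    exact mul_right_cancel (h2.trans h3.symm)

/-- **`Bad` is impossible.** -/
theorem not_bad [Finite X] (w : X) (N : Subgroup X) : ¬ Bad w N := by
  intro hB
  have h := M.hex
  have := M.finE
  -- `w` is conjugate to `x 3 1`
  have hz : IsPGroup 2 ↥(zpowers w) := Cfsg.Agent.TriTwo.SecOne.isPGroup_zpowers (m := 1)
    (by rw [pow_one, pow_two, hB.sq])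
  obtain ⟨g, -, hg⟩ := h.sylow_conj (S := AA σ x) (HexTwo.gen_le_AA _) le_rfl hz (by rw [M.top]; exact le_top)
  have hgU := hg w (mem_zpowers w)
  have hg2 : g * w * g⁻¹ * (g * w * g⁻¹) = 1 := by
    calc g * w * g⁻¹ * (g * w * g⁻¹) = g * (w * w) * g⁻¹ := by group
      _ = 1 := by rw [hB.sq]; group
  have hg1 : g * w * g⁻¹ ≠ 1 := by
    intro h0
    apply hB.ne
    have : w = g⁻¹ * (g * w * g⁻¹) * g := by group
    rw [this, h0]; group
  rcases h.cls_U hgU hg2 hg1 with ⟨a, -, ha⟩ | ⟨a, -, ha⟩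
  · apply hB.non w hB.mem hB.sq hB.ne
    apply cen_of_conj g
    apply cen_of_conj a
    rw [ha]
    exact M.cen_x4
  have hB' : Bad (x 3 1) (N.map (MulAut.conj (a * g)).toMonoidHom) := by
    have := bad_map (MulAut.conj (a * g)) hB
    have e : (MulAut.conj (a * g)) w = x 3 1 := by
      rw [← ha, MulAut.conj_apply]; group
    rwa [e] at this
  set N' := N.map (MulAut.conj (a * g)).toMonoidHom
  -- the Sylow subgroup
  have hNC : N' ≤ centralizer ({x 3 1} : Set X) := fun n hn => mem_centralizer_singleton_iff.mpr (hB'.le n hn)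
  have hCN : centralizer ({x 3 1} : Set X) ≤ normalizer (N' : Set X) := by
    intro c hc
    apply mem_normalizer_of_conj_le
    intro n hn
    exact hB'.norm c (mem_centralizer_singleton_iff.mp hc) n hn
  have hS := M.isSyl_CU.inf_normal hNC hCN
  set B := UU σ x ⊓ centralizer ({x 3 1} : Set X) with hBdef
  have hV : ∀ t ∈ B ⊓ N', t ∈ gen σ x {2, 4} → t = 1 := by
    intro t ht htV
    by_contra h1
    refine hB'.non t ht.2 ?_ h1 (M.cen_V htV h1)
    obtain ⟨b, d, hb, hd, rfl⟩ := h.mem_24.1 htV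
    rw [h.q_mul hb hd (map_zero σ) hb hd (map_zero σ)]
    simp only [mul_zero, trc_zero_right, add_zero, h.add_self, h.q_zero]
  have hle : B ⊓ N' ≤ zpowers (x 3 1) := by
    intro t ht
    have hn : ∀ b ∈ B, ∀ t ∈ B ⊓ N', b * t * b⁻¹ ∈ B ⊓ N' := fun b hb t ht =>
      ⟨mul_mem (mul_mem hb ht.1) (B.inv_mem hb), hB'.norm b (mem_centralizer_singleton_iff.mp hb.2) t ht.2⟩
    rcases M.T_le (T := B ⊓ N') inf_le_left ⟨⟨x_mem_gen (by rw [mem_arc]; decide) (ok3 1),
      mem_centralizer_singleton_iff.mpr rfl⟩, hB'.mem⟩ hn hV ht with rfl | rfl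
    · exact one_mem _
    · exact mem_zpowers _
  have h2 : Nat.card ↥(zpowers (x 3 (1 : E))) ≤ 2 := by
    rw [Nat.card_zpowers]
    exact Nat.le_of_dvd (by norm_num) (orderOf_dvd_of_pow_eq_one (by rw [pow_two, h.x_sq (ok3 1)]))
  have h3 : Nat.card ↥(B ⊓ N') ≤ 2 :=
    (Nat.card_le_card_of_injective _ (Subgroup.inclusion_injective hle)).trans h2
  -- `4 ∣ |N'|`
  obtain ⟨k, hk⟩ := hS.odd_relIndex
  have h4 := card_mul_relIndex (H := B ⊓ N') (K := N') inf_le_right
  have h5 := hB'.four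
  rw [← h4, hk] at h5
  have h6 : 4 ∣ Nat.card ↥(B ⊓ N') := by
    have hc : Nat.Coprime 4 (2 * k + 1) := by
      have : Nat.Coprime (2 ^ 2) (2 * k + 1) := Nat.Coprime.pow_left 2 (by
        rw [Nat.coprime_two_left]
        exact ⟨k, rfl⟩)
      simpa using this
    exact hc.dvd_of_dvd_mul_right h5
  have h7 : 0 < Nat.card ↥(B ⊓ N') := Nat.card_pos
  have := Nat.le_of_dvd h7 h6
  omega

end Mod

end Cfsg.Agent.OddHalf.D4.ThreeD4Two
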