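import Cfsg.Agent.OddHalf.D4.ThreeD4Two.Bad

/-!
# ODD half, D4, `K ≅ ³D₄(2)`: `Z(U)` and balance
-/

set_option autoImplicit false
set_option linter.unusedSectionVars false
set_option linter.unusedSimpArgs false

namespace Cfsg.Agent.OddHalf.D4.ThreeD4Two

open Subgroup Cfsg.Agent.StdRank2.Hex Cfsg.Agent.SplitTwo Cfsg.Agent.StdEven.Syl Cfsg.Agent.OddHalf.D4.Spor
open Cfsg.Agent.StdRank2.Hex.HexTwo (ok1 ok3 ok5 UU AA q uu q_mem uu_mem)
open scoped commutatorElement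

/-- a subgroup of odd order contains no element of 2-power order -/
theorem eq_one_of_odd {X : Type*} [Group X] {I : Subgroup X} (hI : Odd (Nat.card ↥I)) {i : X} (hi : i ∈ I)
    {P : Subgroup X} (hP : IsPGroup 2 ↥P) (hiP : i ∈ P) : i = 1 := by
  have h0 : Nat.card ↥I ≠ 0 := by
    intro h0
    rw [h0] at hI
    exact absurd hI (by decide)
  have := Nat.finite_of_card_ne_zero h0
  obtain ⟨n, hn⟩ := hP ⟨i, hiP⟩
  have hn' : i ^ 2 ^ n = 1 := congrArg Subtype.val hn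
  have h1 : orderOf i ∣ 2 ^ n := orderOf_dvd_of_pow_eq_one hn'
  have h2 : orderOf i ∣ Nat.card ↥I := by
    have := orderOf_dvd_natCard (⟨i, hi⟩ : ↥I)
    rwa [Subgroup.orderOf_mk] at this
  have h3 : orderOf i = 1 := Nat.eq_one_of_dvd_coprimes
    (Nat.Coprime.pow_left n ((Nat.coprime_two_left).2 hI)) h1 h2
  exact orderOf_eq_one_iff.1 h3

/-- a four-group (elements `a`, `b`, `ab`) acting fixed point freely on a group of odd order -/
theorem eq_bot_of_four {X : Type*} [Group X] [Finite X] {I : Subgroup X} {a b : X}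
    (ha : a * a = 1) (hb : b * b = 1) (hna : ∀ i ∈ I, a * i * a⁻¹ ∈ I) (hnb : ∀ i ∈ I, b * i * b⁻¹ ∈ I)
    (hfa : ∀ i ∈ I, i * a = a * i → i = 1) (hfb : ∀ i ∈ I, i * b = b * i → i = 1)
    (hfab : ∀ i ∈ I, i * (a * b) = a * b * i → i = 1) : I = ⊥ := by
  have key : ∀ c : X, c * c = 1 → (∀ i ∈ I, c * i * c⁻¹ ∈ I) → (∀ i ∈ I, i * c = c * i → i = 1) →
      ∀ i ∈ I, c * i * c⁻¹ = i⁻¹ := by
    intro c hc hn hf i hi
    have hcc : c⁻¹ = c := inv_eq_of_mul_eq_one_left hc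
    let φ : ↥I →* ↥I :=
      { toFun := fun i => ⟨c * i * c⁻¹, hn i i.2⟩
        map_one' := Subtype.ext (by simp)
        map_mul' := fun i j => Subtype.ext (by
          show c * (i * j : X) * c⁻¹ = c * i * c⁻¹ * (c * j * c⁻¹)
          group) }
    have h1 : MonoidHom.FixedPointFree (φ : ↥I → ↥I) := by
      intro i hi
      have h2 : c * (i : X) * c⁻¹ = i := congrArg Subtype.val hi
      exact Subtype.ext (hf i i.2 (mul_inv_eq_iff_eq_mul.mp h2).symm)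
    have h2 : Function.Involutive (φ : ↥I → ↥I) := by
      intro i
      apply Subtype.ext
      show c * (c * (i : X) * c⁻¹) * c⁻¹ = i
      rw [hcc]
      calc c * (c * (i : X) * c) * c = (c * c) * i * (c * c) := by group
        _ = i := by rw [hc]; group
    have h3 := MonoidHom.FixedPointFree.coe_eq_inv_of_involutive (φ := φ) h1 h2
    have h4 := congrFun h3 ⟨i, hi⟩
    exact congrArg Subtype.val h4
  rw [eq_bot_iff]
  intro i hi
  rw [mem_bot]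
  refine hfab i hi ?_
  have h1 := key b hb hnb hfb i hi
  have h2 := key a ha hna hfa i⁻¹ (inv_mem hi)
  rw [inv_inv] at h2
  have h3 : a * b * i * (a * b)⁻¹ = i := by
    calc a * b * i * (a * b)⁻¹ = a * (b * i * b⁻¹) * a⁻¹ := by group
      _ = i := by rw [h1, h2]
  exact (mul_inv_eq_iff_eq_mul.mp h3).symm

variable {E : Type*} [Field E] {σ : E ≃+* E} {X : Type*} [Group X] {x : ZMod 12 → E → X}

namespace Mod

variable (M : Mod σ x)

include M

/-- every involution is conjugate to `x 4 1` or `x 3 1` -/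
theorem exists_std [Finite X] {w : X} (hw : w * w = 1) (hw1 : w ≠ 1) :
    ∃ g : X, g * w * g⁻¹ = x 4 1 ∨ g * w * g⁻¹ = x 3 1 := by
  have h := M.hex
  have := M.finE
  have hz : IsPGroup 2 ↥(zpowers w) := Cfsg.Agent.TriTwo.SecOne.isPGroup_zpowers (m := 1)
    (by rw [pow_one, pow_two, hw])
  obtain ⟨g, -, hg⟩ := h.sylow_conj (S := AA σ x) (HexTwo.gen_le_AA _) le_rfl hz (by rw [M.top]; exact le_top)
  have hgU := hg w (mem_zpowers w)
  have hg2 : g * w * g⁻¹ * (g * w * g⁻¹) = 1 := by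
    calc g * w * g⁻¹ * (g * w * g⁻¹) = g * (w * w) * g⁻¹ := by group
      _ = 1 := by rw [hw]; group
  have hg1 : g * w * g⁻¹ ≠ 1 := by
    intro h0
    apply hw1
    have : w = g⁻¹ * (g * w * g⁻¹) * g := by group
    rw [this, h0]; group
  rcases h.cls_U hgU hg2 hg1 with ⟨a, -, ha⟩ | ⟨a, -, ha⟩
  · exact ⟨a * g, Or.inl (by rw [← ha]; group)⟩
  · exact ⟨a * g, Or.inr (by rw [← ha]; group)⟩

theorem mem_C4 {g : X} (hg : g * x 4 1 = x 4 1 * g) : g ∈ gen σ x (arc 1 7) := by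
  have := M.finE
  exact (M.hex.mem_centralizer_x4 (M.mem_AA g) (map_one σ) one_ne_zero).1 (by rw [hg, mul_inv_cancel_right])

/-- `C(x 4 1)` normalises `Q₁` -/
theorem norm_Q1 {g y : X} (hg : g * x 4 1 = x 4 1 * g) (hy : y ∈ gen σ x (arc 2 5)) :
    g * y * g⁻¹ ∈ gen σ x (arc 2 5) := by
  have h := M.hex
  obtain ⟨r, hr, l, hl, rfl⟩ := (h.mem_P 1).1 (M.mem_C4 hg)
  have h1 : l * y * l⁻¹ ∈ gen σ x (arc 2 5) := h.L_conj 1 hl hy
  have e : r * l * y * (r * l)⁻¹ = r * (l * y * l⁻¹) * r⁻¹ := by group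
  rw [e]
  have hr' : r ∈ gen σ x (arc 2 5) := hr
  exact mul_mem (mul_mem hr' h1) (inv_mem hr')

theorem Q1_le_U : gen σ x (arc 2 5) ≤ UU σ x :=
  gen_mono fun l hl => arc_succ_sub (k := 1) (n := 5) (by norm_num) hl

theorem two_Q1 [Finite E] : IsPGroup 2 ↥(gen σ x (arc 2 5)) := M.hex.isPGroup_U.to_le M.Q1_le_U

/-- an element of odd order centralising `x 4 1` and `Q₁` is trivial -/
theorem eq_one_of_cent_Q1 {I : Subgroup X} (hI : Odd (Nat.card ↥I)) {i : X} (hi : i ∈ I)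
    (hc : ∀ v ∈ gen σ x (arc 2 5), i * v = v * i) : i = 1 := by
  have := M.finE
  have h1 : i ∈ gen σ x {4} := M.hex.mem_X4_of (M.mem_AA i) fun v hv => hc v hv
  have h2 : gen σ x {4} ≤ UU σ x := gen_mono (by
    intro l hl
    rw [Set.mem_singleton_iff] at hl
    subst hl
    rw [mem_arc]; decide)
  exact eq_one_of_odd hI hi M.hex.isPGroup_U (h2 h1)

/-- `O(C(x 4 1)) = 1` -/
theorem bal4 {I : Subgroup X} (hI : ∀ i ∈ I, i * x 4 1 = x 4 1 * i)
    (hn : ∀ c : X, c * x 4 1 = x 4 1 * c → ∀ i ∈ I, c * i * c⁻¹ ∈ I) (ho : Odd (Nat.card ↥I)) : I = ⊥ := by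
  have := M.finE
  rw [eq_bot_iff]
  intro i hi
  rw [mem_bot]
  refine M.eq_one_of_cent_Q1 ho hi fun v hv => ?_
  have h1 : i * v * i⁻¹ * v⁻¹ ∈ gen σ x (arc 2 5) := mul_mem (M.norm_Q1 (hI i hi) hv) (inv_mem hv)
  have h2 : i * v * i⁻¹ * v⁻¹ ∈ I := by
    have e : i * v * i⁻¹ * v⁻¹ = i * (v * i⁻¹ * v⁻¹) := by group
    rw [e]
    exact mul_mem hi (hn v (M.x4_comm (M.Q1_le_U hv)) _ (inv_mem hi))
  have h3 := eq_one_of_odd ho h2 M.two_Q1 h1
  rw [mul_inv_eq_one] at h3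
  exact mul_inv_eq_iff_eq_mul.mp h3

/-- `x 3 1` commutes modulo `X₄` with `Q₁` -/
theorem Q1_x3 {v : X} (hv : v ∈ gen σ x (arc 2 5)) : v * x 3 1 * v⁻¹ = x 3 1 ∨ v * x 3 1 * v⁻¹ = x 4 1 * x 3 1 := by
  have h := M.hex
  have z : σ (0 : E) = 0 := map_zero σ
  obtain ⟨b, c, d, e, f, hb, hd, hf, rfl⟩ := h.mem_Q1.1 hv
  have h1 := h.uu_x3 (a := 0) (b := b) (c := c) (d := d) (e := e) (f := f) hb hd hf 1
  rw [h.uq, trc_zero_left] at h1
  rw [h1, mul_inv_cancel_right, h.q_234, h.x_zero, one_mul]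
  rcases M.fix _ (h.fix_trc 1 e) with h2 | h2
  · left; rw [h2, h.x_zero, mul_one]
  · right; rw [h2, h.s34 1 (map_one σ)]

/-- no element `≠ 1` of a subgroup of odd order, normalised by `C(x 3 1)`, centralises `x 3 1` and `x 4 1`. -/
theorem no_fix4 {I : Subgroup X} (hI : ∀ i ∈ I, i * x 3 1 = x 3 1 * i)
    (hn : ∀ c : X, c * x 3 1 = x 3 1 * c → ∀ i ∈ I, c * i * c⁻¹ ∈ I) (ho : Odd (Nat.card ↥I)) {i : X} (hi : i ∈ I)
    (hi4 : i * x 4 1 = x 4 1 * i) : i = 1 := by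
  have := M.finE
  -- `i` centralises `C_{Q₁}(x 3 1)`
  have hD : ∀ v ∈ gen σ x (arc 2 5), v * x 3 1 = x 3 1 * v → i * v = v * i := by
    intro v hv hv3
    have h1 : i * v * i⁻¹ * v⁻¹ ∈ gen σ x (arc 2 5) := mul_mem (M.norm_Q1 hi4 hv) (inv_mem hv)
    have h2 : i * v * i⁻¹ * v⁻¹ ∈ I := by
      have e : i * v * i⁻¹ * v⁻¹ = i * (v * i⁻¹ * v⁻¹) := by group
      rw [e]
      exact mul_mem hi (hn v hv3 _ (inv_mem hi))
    have h3 := eq_one_of_odd ho h2 M.two_Q1 h1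
    rw [mul_inv_eq_one] at h3
    exact mul_inv_eq_iff_eq_mul.mp h3
  refine M.eq_one_of_cent_Q1 ho hi fun v hv => ?_
  set d := v⁻¹ * (i * v * i⁻¹) with hd
  have hdQ : d ∈ gen σ x (arc 2 5) := mul_mem (inv_mem hv) (M.norm_Q1 hi4 hv)
  have hd3 : d * x 3 1 = x 3 1 * d := by
    have hi3 : i⁻¹ * x 3 1 * i = x 3 1 := by rw [mul_assoc, ← hI i hi]; group
    have hi34 : i * (x 4 1 * x 3 1) * i⁻¹ = x 4 1 * x 3 1 := by
      calc i * (x 4 1 * x 3 1) * i⁻¹ = (i * x 4 1) * x 3 1 * i⁻¹ := by group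
        _ = x 4 1 * (i * x 3 1) * i⁻¹ := by rw [hi4]; group
        _ = _ := by rw [hI i hi]; group
    have e1 : (i * v * i⁻¹) * x 3 1 * (i * v * i⁻¹)⁻¹ = v * x 3 1 * v⁻¹ := by
      calc (i * v * i⁻¹) * x 3 1 * (i * v * i⁻¹)⁻¹ = i * (v * (i⁻¹ * x 3 1 * i) * v⁻¹) * i⁻¹ := by group
        _ = i * (v * x 3 1 * v⁻¹) * i⁻¹ := by rw [hi3]
        _ = v * x 3 1 * v⁻¹ := by
          rcases M.Q1_x3 hv with h1 | h1
          · rw [h1, hI i hi, mul_inv_cancel_right]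
          · rw [h1, hi34]
    have e2 : d * x 3 1 * d⁻¹ = x 3 1 := by
      calc d * x 3 1 * d⁻¹ = v⁻¹ * ((i * v * i⁻¹) * x 3 1 * (i * v * i⁻¹)⁻¹) * v := by rw [hd]; group
        _ = x 3 1 := by rw [e1]; group
    exact mul_inv_eq_iff_eq_mul.mp e2
  have hid : i * d = d * i := hD d hdQ hd3
  -- `i ^ n * v * i ^ (-n) = v * d ^ n`
  have hpow : ∀ n : ℕ, i ^ n * v * (i ^ n)⁻¹ = v * d ^ n := by
    intro n
    induction n with
    | zero => simp
    | succ n ih =>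
      have hc : i * d ^ n * i⁻¹ = d ^ n := by
        have : Commute i d := hid
        rw [(this.pow_right n).eq, mul_inv_cancel_right]
      calc i ^ (n + 1) * v * (i ^ (n + 1))⁻¹ = i * (i ^ n * v * (i ^ n)⁻¹) * i⁻¹ := by rw [pow_succ']; group
        _ = i * (v * d ^ n) * i⁻¹ := by rw [ih]
        _ = (i * v * i⁻¹) * (i * d ^ n * i⁻¹) := by group
        _ = v * d * d ^ n := by rw [hc, hd]; group
        _ = v * d ^ (n + 1) := by rw [pow_succ']; group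
  have h0 : Nat.card ↥I ≠ 0 := by
    intro h0
    rw [h0] at ho
    exact absurd ho (by decide)
  have hfin := Nat.finite_of_card_ne_zero h0
  have hin : i ^ Nat.card ↥I = 1 := by
    have := pow_card_eq_one' (x := (⟨i, hi⟩ : ↥I))
    exact congrArg Subtype.val this
  have h1 := hpow (Nat.card ↥I)
  rw [hin] at h1
  have h2 : d ^ Nat.card ↥I = 1 := by
    have : v = v * d ^ Nat.card ↥I := by
      calc v = 1 * v * (1 : X)⁻¹ := by group
        _ = _ := h1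
    exact (mul_eq_left.mp this.symm)
  obtain ⟨m, hm⟩ := M.two_Q1 ⟨d, hdQ⟩
  have hm' : d ^ 2 ^ m = 1 := congrArg Subtype.val hm
  have h3 : orderOf d = 1 := Nat.eq_one_of_dvd_coprimes
    (Nat.Coprime.pow_left m ((Nat.coprime_two_left).2 ho)) (orderOf_dvd_of_pow_eq_one hm') (orderOf_dvd_of_pow_eq_one h2)
  have h4 : d = 1 := orderOf_eq_one_iff.1 h3
  rw [hd, inv_mul_eq_one] at h4
  exact (mul_inv_eq_iff_eq_mul.mp h4.symm)

/-- `O(C(x 3 1)) = 1` -/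
theorem bal3 [Finite X] {I : Subgroup X} (hI : ∀ i ∈ I, i * x 3 1 = x 3 1 * i)
    (hn : ∀ c : X, c * x 3 1 = x 3 1 * c → ∀ i ∈ I, c * i * c⁻¹ ∈ I) (ho : Odd (Nat.card ↥I)) : I = ⊥ := by
  have h := M.hex
  have o : σ (1 : E) = 1 := map_one σ
  have hfix : ∀ v ∈ gen σ x {2, 4}, v ≠ 1 → ∀ i ∈ I, i * v = v * i → i = 1 := by
    intro v hv hv1 i hi hiv
    obtain ⟨g, hg, hg3, -⟩ := M.conj_x4_of_V hv hv1
    have hgc : g * x 3 1 = x 3 1 * g := mul_inv_eq_iff_eq_mul.mp (hg3 1)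
    have h1 := M.no_fix4 hI hn ho (hn g hgc i hi) (by
      rw [← hg]
      calc g * i * g⁻¹ * (g * v * g⁻¹) = g * (i * v) * g⁻¹ := by group
        _ = g * (v * i) * g⁻¹ := by rw [hiv]
        _ = _ := by group)
    have : i = g⁻¹ * (g * i * g⁻¹) * g := by group
    rw [this, h1]; group
  have ne2 : x 2 1 ≠ 1 := fun h0 => one_ne_zero ((h.x_eq_one (ok_one σ 2)).1 h0)
  have ne4 : x 4 1 ≠ 1 := fun h0 => one_ne_zero ((h.x_eq_one (ok_one σ 4)).1 h0)
  have ne24 : x 2 1 * x 4 1 ≠ 1 := by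
    intro h0
    have h1 : q x 1 0 1 0 0 = q x 0 0 0 0 0 := by rw [h.q_234, h.x_zero, mul_one, h0, h.q_zero]
    exact one_ne_zero (h.q_inj o o (map_zero σ) (map_zero σ) (map_zero σ) (map_zero σ) h1).1
  have c2 : x 2 1 * x 3 1 = x 3 1 * x 2 1 := h.s23 o 1
  have c4 : x 4 1 * x 3 1 = x 3 1 * x 4 1 := (h.s34 1 o).symm
  refine eq_bot_of_four (a := x 2 1) (b := x 4 1) (h.x_sq (ok_one σ 2)) (h.x_sq (ok_one σ 4)) (hn _ c2) (hn _ c4)
    (hfix _ (x_mem_gen (by simp) (ok_one σ 2)) ne2) (hfix _ (x_mem_gen (by simp) (ok_one σ 4)) ne4)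
    (hfix _ (mul_mem (x_mem_gen (by simp) (ok_one σ 2)) (x_mem_gen (by simp) (ok_one σ 4))) ne24)

/-- **balance** -/
theorem bal [Finite X] (a : X) (ha : a * a = 1) (ha1 : a ≠ 1) (I : Subgroup X) (hI : ∀ i ∈ I, i * a = a * i)
    (hn : ∀ c : X, c * a = a * c → ∀ i ∈ I, c * i * c⁻¹ ∈ I) (ho : Odd (Nat.card ↥I)) : I = ⊥ := by
  obtain ⟨g, hg⟩ := M.exists_std ha ha1
  set I' := I.map (MulAut.conj g).toMonoidHom with hI'
  have hcard : Nat.card ↥I' = Nat.card ↥I :=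
    (Nat.card_congr (I.equivMapOfInjective (MulAut.conj g).toMonoidHom (MulAut.conj g).injective).toEquiv).symm
  have h1 : ∀ i ∈ I', i * (g * a * g⁻¹) = g * a * g⁻¹ * i := by
    rintro _ ⟨i, hi, rfl⟩
    show g * i * g⁻¹ * (g * a * g⁻¹) = g * a * g⁻¹ * (g * i * g⁻¹)
    calc g * i * g⁻¹ * (g * a * g⁻¹) = g * (i * a) * g⁻¹ := by group
      _ = g * (a * i) * g⁻¹ := by rw [hI i hi]
      _ = _ := by group
  have h2 : ∀ c : X, c * (g * a * g⁻¹) = g * a * g⁻¹ * c → ∀ i ∈ I', c * i * c⁻¹ ∈ I' := by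
    rintro c hc _ ⟨i, hi, rfl⟩
    have hc' : (g⁻¹ * c * g) * a = a * (g⁻¹ * c * g) := by
      calc (g⁻¹ * c * g) * a = g⁻¹ * (c * (g * a * g⁻¹)) * g := by group
        _ = g⁻¹ * (g * a * g⁻¹ * c) * g := by rw [hc]
        _ = _ := by group
    refine ⟨_, hn _ hc' i hi, ?_⟩
    show g * (g⁻¹ * c * g * i * (g⁻¹ * c * g)⁻¹) * g⁻¹ = c * (g * i * g⁻¹) * c⁻¹
    group
  have h3 : I' = ⊥ := by
    rcases hg with hg | hg
    · rw [hg] at h1 h2
      exact M.bal4 h1 h2 (by rw [hcard]; exact ho)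
    · rw [hg] at h1 h2
      exact M.bal3 h1 h2 (by rw [hcard]; exact ho)
  rw [hI', Subgroup.map_eq_bot_iff_of_injective _ (MulAut.conj g).injective] at h3
  exact h3

/-- every Sylow 2-subgroup is conjugate to `U` -/
theorem exists_conj_U [Finite X] (S : Sylow 2 X) : ∃ p : X, ∀ y, y ∈ S ↔ p * y * p⁻¹ ∈ UU σ x := by
  have := M.finE
  obtain ⟨p, -, hp⟩ := M.hex.sylow_conj (S := AA σ x) (HexTwo.gen_le_AA _) le_rfl S.2 (by rw [M.top]; exact le_top)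
  refine ⟨p, fun y => ⟨hp y, fun hy => ?_⟩⟩
  have h1 : IsPGroup 2 ↥((UU σ x).map (MulAut.conj p⁻¹).toMonoidHom) := M.hex.isPGroup_U.map _
  have h2 : (S : Subgroup X) ≤ (UU σ x).map (MulAut.conj p⁻¹).toMonoidHom := by
    intro s hs
    rw [mem_map_conj, inv_inv]
    exact hp s hs
  have h3 := S.3 h1 h2
  show y ∈ (S : Subgroup X)
  rw [← h3, mem_map_conj, inv_inv]
  exact hy

/-- the centre of a Sylow 2-subgroup contains only one involution -/
theorem z1 [Finite X] (S : Sylow 2 X) (a : X) (ha : a ∈ S) (ha1 : a ≠ 1) (hac : ∀ s ∈ S, s * a = a * s)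
    (b : X) (hb : b ∈ S) (hb1 : b ≠ 1) (hbc : ∀ s ∈ S, s * b = b * s) : a = b := by
  obtain ⟨p, hp⟩ := M.exists_conj_U S
  have key : ∀ c ∈ S, c ≠ 1 → (∀ s ∈ S, s * c = c * s) → p * c * p⁻¹ = x 4 1 := by
    intro c hc hc1 hcc
    have h1 : p * c * p⁻¹ ∈ gen σ x {4} := by
      refine M.hex.mem_X4_of_U ((hp c).1 hc) fun v hv => ?_
      have h2 : p⁻¹ * v * p ∈ S := by
        rw [hp]
        have : p * (p⁻¹ * v * p) * p⁻¹ = v := by group
        rwa [this]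
      have h3 := hcc _ h2
      show p * c * p⁻¹ * v = v * (p * c * p⁻¹)
      calc p * c * p⁻¹ * v = p * (c * (p⁻¹ * v * p)) * p⁻¹ := by group
        _ = p * (p⁻¹ * v * p * c) * p⁻¹ := by rw [h3]
        _ = _ := by group
    rcases M.mem_Z.1 h1 with h2 | h2
    · exfalso
      apply hc1
      have : c = p⁻¹ * (p * c * p⁻¹) * p := by group
      rw [this, h2]; group
    · exact h2
  have h1 := key a ha ha1 hac
  have h2 := key b hb hb1 hbc
  rw [← h2] at h1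
  exact mul_left_cancel (mul_right_cancel h1)

end Mod

end Cfsg.Agent.OddHalf.D4.ThreeD4Two
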