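import Cfsg.Agent.StdRank2.HexFacts
import Cfsg.Agent.StdRank2.HexModS
import Cfsg.Agent.TriTwo.Basic
import Cfsg.Agent.StdEven.Syl

/-!
# ODD half, D4, `K ≅ ³D₄(2)`: the involutions

`Mod σ x` : `X` is generated by a hexagonal root system over `F₈ / F₂`.
* `mem_V_of` : `Z₂(U) ≤ V = X₂X₄`;
* `conj_x4_of_V` : the involutions of `V` are conjugate to `x 4 1`;
* `isSyl_U` : `U` is a Sylow 2-subgroup.
-/

set_option autoImplicit false
set_option linter.unusedSectionVars false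
set_option linter.unusedSimpArgs false

namespace Cfsg.Agent.OddHalf.D4.ThreeD4Two

open Subgroup Cfsg.Agent.StdRank2.Hex Cfsg.Agent.SplitTwo Cfsg.Agent.StdEven.Syl
open Cfsg.Agent.StdRank2.Hex.HexTwo (ok1 ok3 ok5 UU AA q uu q_mem uu_mem)
open scoped commutatorElement

variable {E : Type*} [Field E] {σ : E ≃+* E} {X : Type*} [Group X] {x : ZMod 12 → E → X}

/-- `X` is generated by a hexagonal root system over `F₈ / F₂`. -/
structure Mod (σ : E ≃+* E) (x : ZMod 12 → E → X) : Prop where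
  hex : HexTwo σ x
  card : Nat.card E = 8
  fix : ∀ a, σ a = a → a = 0 ∨ a = 1
  top : AA σ x = ⊤

namespace Mod

variable (M : Mod σ x)

include M

theorem finE : Finite E := Cfsg.Agent.TriTwo.finE M.card

theorem mem_AA (g : X) : g ∈ AA σ x := by rw [M.top]; trivial

theorem exists_mover : ∃ r : E, σ r ≠ r := by
  by_contra hcon
  push Not at hcon
  obtain ⟨η, h0, h1, -⟩ := Cfsg.Agent.TriTwo.exists_eta M.hex.two M.card M.fix M.hex.cube
  rcases M.fix η (hcon η) with h | h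
  · exact h0 h
  · exact h1 h

/-- **`Z₂(U) ≤ X₂X₄`** -/
theorem mem_V_of {u : X} (hu : u ∈ UU σ x) (hc : ∀ v ∈ UU σ x, ⁅u, v⁆ ∈ gen σ x {4}) : u ∈ gen σ x {2, 4} := by
  have h := M.hex
  have z : σ (0 : E) = 0 := map_zero σ
  have o : σ (1 : E) = 1 := map_one σ
  have h1 : u ∈ gen σ x (arc 2 5) := h.mem_Q1_of_U hu fun c => hc _ (x_mem_gen (by rw [mem_arc]; decide) (ok3 c))
  obtain ⟨b, c, d, e, f, hb, hd, hf, rfl⟩ := h.mem_Q1.1 h1
  -- commutation with `x 1 a`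
  have key : ∀ a, trc σ a c + trc σ (shp σ a) e + f * nrm σ a = 0 ∧ crs σ a e + f * shp σ a = 0 ∧ f * a = 0 := by
    intro a
    obtain ⟨t, ht, e1⟩ := (h.mem_gen_singleton (k := 4)).1 (hc (x 1 a) (x_mem_gen (by rw [mem_arc]; decide) (ok1 a)))
    have ht' : σ t = t := ht (by decide)
    have e2 := HexTwo.conj_eq_of_comm e1
    rw [mul_inv_eq_iff_eq_mul] at e2
    -- `q * x1 = x4 t * x1 * q`
    have e3 : x 4 t * x 1 a = x 1 a * x 4 t := (h.s14 a ht').symm
    rw [e3, mul_assoc, ← h.q4, h.q_mul z ht' z hb hd hf, h.x1_q a (by simp [hb]) (by simp [hd, ht', trc_zero_right])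
      (by simp [hf])] at e2
    have e4 := mul_right_cancel e2
    have f1 := h.fix_trc a c
    have f2 := h.fix_trc (shp σ a) e
    have f3 := h.fix_trc a (shp σ e)
    have f4 := h.fix_nrm a
    simp only [zero_add, mul_zero, trc_zero_right, add_zero] at e4
    obtain ⟨r1, r2, -, r4, -⟩ := h.q_inj hb hd hf (by simp only [map_add, map_mul, hb, f1, f2, hf, f4])
      (by simp only [map_add, map_mul, map_pow, ht', hd, f3, f2, hf, f4]) hf e4
    refine ⟨?_, ?_, ?_⟩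
    · have : b + 0 = b + (trc σ a c + trc σ (shp σ a) e + f * nrm σ a) := by
        rw [add_zero, ← add_assoc, ← add_assoc]; exact r1
      exact (add_left_cancel this).symm
    · have : c + 0 = c + (crs σ a e + f * shp σ a) := by rw [add_zero, ← add_assoc]; exact r2
      exact (add_left_cancel this).symm
    · have : e + 0 = e + f * a := by rw [add_zero]; exact r4
      exact (add_left_cancel this).symm
  have hf0 : f = 0 := by
    have := (key 1).2.2
    rwa [mul_one] at this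
  subst hf0
  have he0 : e = 0 := by
    by_contra he
    obtain ⟨r, hr⟩ := M.exists_mover
    have := (key (e * r)).2.1
    rw [zero_mul, add_zero] at this
    exact h.crs_self_ne hr he this
  subst he0
  have hc0 : c = 0 := by
    refine h.eq_zero_of_trc fun y => ?_
    have := (key y).1
    rw [zero_mul, add_zero, trc_zero_right, add_zero, trc_comm] at this
    exact this
  subst hc0
  exact h.mem_24.2 ⟨b, d, hb, hd, rfl⟩

theorem mem_V {u : X} : u ∈ gen σ x {2, 4} ↔ u = 1 ∨ u = x 2 1 ∨ u = x 4 1 ∨ u = x 2 1 * x 4 1 := by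
  have h := M.hex
  rw [h.mem_24]
  constructor
  · rintro ⟨b, d, hb, hd, rfl⟩
    rw [h.q_234, h.x_zero, mul_one]
    rcases M.fix b hb with rfl | rfl <;> rcases M.fix d hd with rfl | rfl
    · left; rw [h.x_zero, h.x_zero, mul_one]
    · right; right; left; rw [h.x_zero, one_mul]
    · right; left; rw [h.x_zero, mul_one]
    · right; right; right; rfl
  · rintro (rfl | rfl | rfl | rfl)
    · exact ⟨0, 0, map_zero σ, map_zero σ, by rw [h.q_zero]⟩
    · exact ⟨1, 0, map_one σ, map_zero σ, by rw [h.q2]⟩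
    · exact ⟨0, 1, map_zero σ, map_one σ, by rw [h.q4]⟩
    · exact ⟨1, 1, map_one σ, map_one σ, by rw [h.q_234, h.x_zero, mul_one]⟩

theorem mem_Z {u : X} : u ∈ gen σ x {4} ↔ u = 1 ∨ u = x 4 1 := by
  have h := M.hex
  rw [h.mem_gen_singleton]
  constructor
  · rintro ⟨a, ha, rfl⟩
    rcases M.fix a (ha (by decide)) with rfl | rfl
    · left; exact h.x_zero 4
    · right; rfl
  · rintro (rfl | rfl)
    · exact ⟨0, ok_zero σ 4, (h.x_zero 4).symm⟩
    · exact ⟨1, ok_one σ 4, rfl⟩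

/-- the reflection `j ↦ 6 - j` -/
theorem nn0_act {j : ZMod 12} {a : E} (ha : Ok σ j a) : nn x 0 * x j a * (nn x 0)⁻¹ = x (6 - j) a := by
  have := M.hex.refl 0 j ha
  rwa [mul_zero, zero_add] at this

/-- conjugation by `x 6 1` -/
theorem x6_act : x 6 1 * x 2 1 * (x 6 1)⁻¹ = x 2 1 * x 4 1 ∧ x 6 1 * x 4 1 * (x 6 1)⁻¹ = x 4 1 ∧
    ∀ c, x 6 1 * x 3 c * (x 6 1)⁻¹ = x 3 c := by
  have h := M.hex
  have o : σ (1 : E) = 1 := map_one σ
  refine ⟨?_, ?_, fun c => ?_⟩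
  · rw [mul_inv_eq_iff_eq_mul]
    have e := h.c26 o o
    rw [one_mul] at e
    have i4 := h.x_sq (ok_of_fix 4 o)
    calc x 6 1 * x 2 1 = x 4 1 * x 4 1 * x 6 1 * x 2 1 := by rw [i4, one_mul]
      _ = x 4 1 * (x 4 1 * x 6 1 * x 2 1) := by group
      _ = x 4 1 * (x 2 1 * x 6 1) := by rw [← e]
      _ = x 4 1 * x 2 1 * x 6 1 := by group
      _ = _ := by rw [← h.s24 o o]
  · rw [← h.s46 o o, mul_inv_cancel_right]
  · rw [← h.s36 c o, mul_inv_cancel_right]

/-- the involutions of `V` are conjugate to `x 4 1`, by elements centralising `x 3 c`. -/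
theorem conj_x4_of_V {v : X} (hv : v ∈ gen σ x {2, 4}) (h1 : v ≠ 1) :
    ∃ g : X, g * v * g⁻¹ = x 4 1 ∧ (∀ c, g * x 3 c * g⁻¹ = x 3 c) ∧ ∀ v' ∈ gen σ x {2, 4}, g * v' * g⁻¹ ∈ gen σ x {2, 4} := by
  have h := M.hex
  obtain ⟨k1, k2, k3⟩ := M.x6_act
  have n2 : nn x 0 * x 2 1 * (nn x 0)⁻¹ = x 4 1 := by
    rw [M.nn0_act (ok_one σ 2)]; congr 1
  have n4 : nn x 0 * x 4 1 * (nn x 0)⁻¹ = x 2 1 := by
    rw [M.nn0_act (ok_one σ 4)]; congr 1
  have n3 : ∀ c, nn x 0 * x 3 c * (nn x 0)⁻¹ = x 3 c := fun c => by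
    rw [M.nn0_act (ok3 c)]; congr 1
  have q24 : x 2 1 * x 4 1 = x 4 1 * x 2 1 := h.s24 (map_one σ) (map_one σ)
  have i4 := h.x_sq (ok_of_fix 4 (map_one σ))
  have n0 : ∀ v' ∈ gen σ x {2, 4}, nn x 0 * v' * (nn x 0)⁻¹ ∈ gen σ x {2, 4} := by
    intro v' hv'
    rw [M.mem_V] at hv' ⊢
    rcases hv' with rfl | rfl | rfl | rfl
    · left; group
    · right; right; left; exact n2
    · right; left; exact n4
    · right; right; right
      calc nn x 0 * (x 2 1 * x 4 1) * (nn x 0)⁻¹ = (nn x 0 * x 2 1 * (nn x 0)⁻¹) * (nn x 0 * x 4 1 * (nn x 0)⁻¹) := by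
            group
        _ = _ := by rw [n2, n4, q24]
  have n6 : ∀ v' ∈ gen σ x {2, 4}, x 6 1 * v' * (x 6 1)⁻¹ ∈ gen σ x {2, 4} := by
    intro v' hv'
    rw [M.mem_V] at hv' ⊢
    rcases hv' with rfl | rfl | rfl | rfl
    · left; group
    · right; right; right; exact k1
    · right; right; left; exact k2
    · right; left
      calc x 6 1 * (x 2 1 * x 4 1) * (x 6 1)⁻¹ = (x 6 1 * x 2 1 * (x 6 1)⁻¹) * (x 6 1 * x 4 1 * (x 6 1)⁻¹) := by
            group
        _ = _ := by rw [k1, k2, mul_assoc, i4, mul_one]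
  rcases M.mem_V.1 hv with rfl | rfl | rfl | rfl
  · exact absurd rfl h1
  · exact ⟨nn x 0, n2, n3, n0⟩
  · exact ⟨1, by group, fun c => by group, fun v' hv' => by rw [one_mul, inv_one, mul_one]; exact hv'⟩
  · refine ⟨nn x 0 * (x 6 1), ?_, fun c => ?_, fun v' hv' => ?_⟩
    · calc nn x 0 * x 6 1 * (x 2 1 * x 4 1) * (nn x 0 * x 6 1)⁻¹
          = nn x 0 * ((x 6 1 * x 2 1 * (x 6 1)⁻¹) * (x 6 1 * x 4 1 * (x 6 1)⁻¹)) * (nn x 0)⁻¹ := by group
        _ = _ := by rw [k1, k2, mul_assoc (x 2 1), i4, mul_one, n2]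
    · calc nn x 0 * x 6 1 * x 3 c * (nn x 0 * x 6 1)⁻¹ = nn x 0 * (x 6 1 * x 3 c * (x 6 1)⁻¹) * (nn x 0)⁻¹ := by group
        _ = _ := by rw [k3, n3]
    · have : nn x 0 * x 6 1 * v' * (nn x 0 * x 6 1)⁻¹ = nn x 0 * (x 6 1 * v' * (x 6 1)⁻¹) * (nn x 0)⁻¹ := by group
      rw [this]
      exact n0 _ (n6 _ hv')

/-- `U` is a Sylow 2-subgroup. -/
theorem isSyl_U [Finite X] : IsSyl (UU σ x) ⊤ := by
  have := M.finE
  refine ⟨le_top, M.hex.isPGroup_U, fun Q hQ _ hUQ => ?_⟩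
  have htop : UU σ x ≤ ⊤ := le_top
  obtain ⟨p, -, hp⟩ := M.hex.sylow_conj (S := AA σ x) (HexTwo.gen_le_AA _) le_rfl hQ (by rw [M.top]; exact le_top)
  refine (Subgroup.eq_of_le_of_card_ge hUQ ?_).symm
  have h1 : Q.map (MulAut.conj p).toMonoidHom ≤ UU σ x := by
    rintro _ ⟨y, hy, rfl⟩
    exact hp y hy
  calc Nat.card Q = Nat.card (Q.map (MulAut.conj p).toMonoidHom) :=
        Nat.card_congr (Q.equivMapOfInjective (MulAut.conj p).toMonoidHom (MulAut.conj p).injective).toEquiv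
    _ ≤ Nat.card (UU σ x) := Nat.card_le_card_of_injective _ (Subgroup.inclusion_injective h1)

/-- `x 4 1` centralises `U` -/
theorem x4_comm {u : X} (hu : u ∈ UU σ x) : u * x 4 1 = x 4 1 * u := by
  have := M.hex.comm_gen_long (k := 4) (by decide) (ok_of_fix _ (map_one σ)) (g := u) (gen_mono (by
      intro l hl
      rw [mem_arc] at hl ⊢
      rw [show (4 : ZMod 12) - 3 = 1 by ring]
      omega) hu)
  exact this.eq.symm

end Mod

end Cfsg.Agent.OddHalf.D4.ThreeD4Two
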